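import Groth.Agent.InsepRed.Main
import Mathlib.RingTheory.Spectrum.Prime.Homeomorph
import Mathlib.RingTheory.EssentialFiniteness

/-!
# Finitely generated field extensions become separable after a finite purely inseparable extension
-/

open TensorProduct

namespace Groth.Agent.InsepRed

universe u

variable {k : Type u} [Field k]

/-- The unique maximal ideal of `k' ⊗ K`, for `k'` purely inseparable, consists of nilpotents. -/
theorem maximal_eq_nilradical {k' K : Type u} [Field k'] [Field K] [Algebra k k'] [Algebra k K]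
    [IsPurelyInseparable k k'] (m : Ideal (k' ⊗[k] K)) [m.IsPrime] : m = nilradical (k' ⊗[k] K) := by
  refine le_antisymm (fun x hx => ?_) (nilradical_le_prime m)
  let c := Algebra.TensorProduct.comm k k' K
  obtain ⟨n, hn, a, ha⟩ := IsPurelyInseparable.exists_pow_mem_range_tensorProduct (c x)
  by_cases h : a = 0
  · refine ⟨n, c.injective ?_⟩
    rw [map_pow, map_zero, ← ha, h, map_zero]
  · exfalso
    refine Ideal.IsPrime.ne_top ‹_› (Ideal.eq_top_of_isUnit_mem m (m.pow_mem_of_mem hx n hn) ?_)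
    have hu : IsUnit (c (x ^ n)) := by
      rw [map_pow, ← ha]
      exact (isUnit_iff_ne_zero.mpr h).map _
    have := hu.map c.symm
    rwa [AlgEquiv.symm_apply_apply] at this

theorem exists_geomReduced_residue (K : Type u) [Field K] [Algebra k K] [Algebra.EssFiniteType k K] :
    ∃ (k' : Type u) (_ : Field k') (_ : Algebra k k'), FiniteDimensional k k' ∧ IsPurelyInseparable k k' ∧
      ∀ (m : Ideal (k' ⊗[k] K)), m.IsMaximal → Algebra.IsGeometricallyReduced k' ((k' ⊗[k] K) ⧸ m) := by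
  classical
  let A := Algebra.EssFiniteType.subalgebra k K
  haveI : IsLocalization (Algebra.EssFiniteType.submonoid k K) K := inferInstance
  obtain ⟨k', hk', halg, hfd, hpi, hgr⟩ := exists_geomReduced_quotient (k := k) A
  refine ⟨k', hk', halg, hfd, hpi, fun m hm => ?_⟩
  have hm' : m = nilradical (k' ⊗[k] K) := maximal_eq_nilradical m
  let g : k' ⊗[k] A →ₐ[k'] k' ⊗[k] K :=
    Algebra.TensorProduct.map (AlgHom.id k' k') (IsScalarTower.toAlgHom k A K)
  have hg : Function.Injective g :=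
    Module.Flat.lTensor_preserves_injective_linearMap
      ((IsScalarTower.toAlgHom k A K).toLinearMap) Subtype.val_injective
  let f : (k' ⊗[k] A) ⧸ nilradical (k' ⊗[k] A) →ₐ[k'] (k' ⊗[k] K) ⧸ m :=
    Ideal.Quotient.liftₐ _ ((Ideal.Quotient.mkₐ k' m).comp g) fun x hx => by
      rw [AlgHom.comp_apply, Ideal.Quotient.mkₐ_eq_mk, Ideal.Quotient.eq_zero_iff_mem, hm']
      exact IsNilpotent.map hx g
  letI : Algebra ((k' ⊗[k] A) ⧸ nilradical (k' ⊗[k] A)) ((k' ⊗[k] K) ⧸ m) := f.toRingHom.toAlgebra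
  haveI : IsScalarTower k' ((k' ⊗[k] A) ⧸ nilradical (k' ⊗[k] A)) ((k' ⊗[k] K) ⧸ m) :=
    ⟨fun c x y => by
      show f (c • x) * y = c • (f x * y)
      rw [map_smul, smul_mul_assoc]⟩
  let M : Submonoid ((k' ⊗[k] A) ⧸ nilradical (k' ⊗[k] A)) :=
    (Algebra.EssFiniteType.submonoid k K).map
      ((Ideal.Quotient.mkₐ k (nilradical (k' ⊗[k] A))).comp Algebra.TensorProduct.includeRight)
  haveI : IsLocalization (R := (k' ⊗[k] A) ⧸ nilradical (k' ⊗[k] A)) M ((k' ⊗[k] K) ⧸ m) := by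
    refine ⟨⟨?_, ?_, ?_⟩⟩
    · rintro ⟨_, a, ha, rfl⟩
      have h1 : IsUnit (algebraMap A K a) := IsLocalization.map_units K ⟨a, ha⟩
      exact (h1.map (Algebra.TensorProduct.includeRight : K →ₐ[k] k' ⊗[k] K)).map (Ideal.Quotient.mk m)
    · intro z
      obtain ⟨y, rfl⟩ := Ideal.Quotient.mk_surjective z
      suffices h : ∃ (x : k' ⊗[k] A) (a : A), a ∈ Algebra.EssFiniteType.submonoid k K ∧
          y * ((1 : k') ⊗ₜ[k] algebraMap A K a) = g x by
        obtain ⟨x, a, ha, hxa⟩ := h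
        exact ⟨(Ideal.Quotient.mk _ x, ⟨_, a, ha, rfl⟩), congrArg (Ideal.Quotient.mk m) hxa⟩
      induction y using TensorProduct.induction_on with
      | zero => exact ⟨0, 1, one_mem _, by simp⟩
      | tmul c b =>
        obtain ⟨⟨p, q⟩, hpq⟩ := IsLocalization.surj (Algebra.EssFiniteType.submonoid k K) b
        exact ⟨c ⊗ₜ[k] p, q, q.2, by
          rw [Algebra.TensorProduct.tmul_mul_tmul, mul_one, hpq]
          rfl⟩
      | add y z hy hz =>
        obtain ⟨x₁, a₁, ha₁, h₁⟩ := hy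
        obtain ⟨x₂, a₂, ha₂, h₂⟩ := hz
        refine ⟨x₁ * ((1 : k') ⊗ₜ[k] a₂) + x₂ * ((1 : k') ⊗ₜ[k] a₁), a₁ * a₂, mul_mem ha₁ ha₂, ?_⟩
        have e : ((1 : k') ⊗ₜ[k] algebraMap A K (a₁ * a₂)) =
            ((1 : k') ⊗ₜ[k] algebraMap A K a₁) * ((1 : k') ⊗ₜ[k] algebraMap A K a₂) := by
          rw [Algebra.TensorProduct.tmul_mul_tmul, one_mul, map_mul]
        have eg : ∀ a : A, g ((1 : k') ⊗ₜ[k] a) = (1 : k') ⊗ₜ[k] algebraMap A K a := fun a => rfl
        rw [e, map_add g, map_mul g, map_mul g, eg a₁, eg a₂, ← h₁, ← h₂]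
        ring
    · intro x y hxy
      refine ⟨1, ?_⟩
      obtain ⟨x, rfl⟩ := Ideal.Quotient.mk_surjective x
      obtain ⟨y, rfl⟩ := Ideal.Quotient.mk_surjective y
      have h0 : g x - g y ∈ m := Ideal.Quotient.eq.mp hxy
      rw [hm', ← map_sub] at h0
      have h1 : IsNilpotent (x - y) := (IsNilpotent.map_iff hg).mp h0
      exact congrArg _ (Ideal.Quotient.eq.mpr h1)
  exact GeomField.gr_localization ((k' ⊗[k] A) ⧸ nilradical (k' ⊗[k] A)) ((k' ⊗[k] K) ⧸ m) M

end Groth.Agent.InsepRed
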